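import Cfsg.Agent.H79.S69.EltMinus
import Cfsg.Agent.H377.Elt

/-!
# S3469 (recognition of `PSp₈(7^m)`): an improper similitude of bad order, `q ≡ 3 mod 4` (helper79)
-/

set_option autoImplicit false
set_option linter.style.haveILetI false

universe u

namespace Cfsg.Agent.H79.S69

open Cfsg Cfsg.Agent.H903.SylSemi Cfsg.Agent.H214.S69 Cfsg.Agent
open QuadraticMap Cfsg.Agent.LieClassical.OrthCore Cfsg.Agent.LieClassical.OrthForms
open Cfsg.Agent.H377

section Rot

variable {E : Type} [Field E] [Fintype E]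

theorem neg_one_nonsquare (h4 : Fintype.card E % 4 = 3) : ¬ IsSquare (-1 : E) := by
  rw [FiniteField.isSquare_neg_one_iff]
  omega

theorem exists_ext (K : Type) [Field K] [Finite K] (p : ℕ) [Fact p.Prime] [CharP K p] (n : ℕ) [NeZero n] :
    ∃ (L : Type) (_ : Field L) (_ : Fintype L) (_ : Algebra K L), Nat.card L = Nat.card K ^ n ∧
      Module.finrank K L = n :=
  ⟨FiniteField.Extension K p n, inferInstance, Fintype.ofFinite _, inferInstance, FiniteField.natCard_extension _ _ _,
    FiniteField.finrank_extension _ _ _⟩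

/-- a rotation of the plane `x² + y²` with multiplier `-1` -/
theorem exists_rot (p : ℕ) [Fact p.Prime] [CharP E p] (h4 : Fintype.card E % 4 = 3) :
    ∃ x y : E, x ^ 2 + y ^ 2 = -1 ∧
      ∀ m : ℕ, (!![x, -y; y, x] : Matrix (Fin 2) (Fin 2) E) ^ (2 * m) = (-1 : E) ^ m • (1 : Matrix (Fin 2) (Fin 2) E) →
        Fintype.card E + 1 ∣ m := by
  classical
  haveI : NeZero (2 : ℕ) := ⟨by norm_num⟩
  obtain ⟨L, _, _, _, hL, -⟩ := exists_ext E p 2
  rw [Nat.card_eq_fintype_card, Nat.card_eq_fintype_card] at hL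
  set e := Fintype.card E with he
  have he1 : 3 ≤ e := by omega
  obtain ⟨w, hw⟩ : ∃ w, e = 4 * w + 3 := ⟨e / 4, by omega⟩
  have hLm : Fintype.card L % 4 ≠ 3 := by
    rw [hL, Nat.pow_mod, h4]
    norm_num
  obtain ⟨i, hi⟩ := FiniteField.isSquare_neg_one_iff.2 hLm
  have hinj : ∀ x y : E, algebraMap E L x + algebraMap E L y * i = 0 → x = 0 ∧ y = 0 := by
    intro x y h
    by_cases hy : y = 0
    · subst hy
      rw [map_zero, zero_mul, add_zero] at h
      exact ⟨(map_eq_zero _).1 h, rfl⟩
    · exfalso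
      apply neg_one_nonsquare h4
      refine ⟨x / y, ?_⟩
      apply (algebraMap E L).injective
      rw [map_neg, map_one, map_mul, map_div₀]
      have hy' : algebraMap E L y ≠ 0 := (map_ne_zero _).2 hy
      have h1 : algebraMap E L x / algebraMap E L y = -i := by
        rw [div_eq_iff hy']
        linear_combination h
      rw [h1]
      linear_combination hi
  let φ : E × E → L := fun v => algebraMap E L v.1 + algebraMap E L v.2 * i
  have hφinj : Function.Injective φ := by
    intro v v' h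
    have h1 := hinj (v.1 - v'.1) (v.2 - v'.2) (by
      rw [map_sub, map_sub]
      change φ v = φ v' at h
      simp only [φ] at h
      linear_combination h)
    exact Prod.ext (sub_eq_zero.1 h1.1) (sub_eq_zero.1 h1.2)
  have hφ : Function.Bijective φ := by
    rw [Fintype.bijective_iff_injective_and_card]
    refine ⟨hφinj, ?_⟩
    rw [Fintype.card_prod, hL]
    ring
  -- the generator
  obtain ⟨g, hg⟩ := IsCyclic.exists_generator (α := Lˣ)
  have ho1 : orderOf g = e ^ 2 - 1 := by
    rw [orderOf_eq_card_of_forall_mem_zpowers hg, Nat.card_eq_fintype_card, Fintype.card_units, hL]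
  have hprod : e ^ 2 - 1 = (2 * w + 1) * (2 * (e + 1)) := by
    have p2 : 1 ≤ e ^ 2 := Nat.one_le_pow _ _ (by omega)
    have : ((e : ℤ)) = 4 * w + 3 := by exact_mod_cast hw
    zify [p2]
    rw [this]
    ring
  obtain ⟨a, hao⟩ : ∃ a : Lˣ, orderOf a = 2 * (e + 1) := by
    refine ⟨g ^ (2 * w + 1), ?_⟩
    rw [orderOf_pow, ho1, hprod, Nat.gcd_eq_right (Dvd.intro _ rfl)]
    exact Nat.mul_div_cancel_left _ (by omega)
  have hpos : 0 < e + 1 := by omega
  have han : (a : L) ^ (e + 1) = -1 := by
    have h1 : ((a : L) ^ (e + 1)) * ((a : L) ^ (e + 1)) = 1 := by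
      rw [← pow_add, ← two_mul, ← hao, ← Units.val_pow_eq_pow_val, pow_orderOf_eq_one, Units.val_one]
    rcases mul_self_eq_one_iff.1 h1 with h2 | h2
    · exfalso
      have h3 : a ^ (e + 1) = 1 := by
        apply Units.ext
        rw [Units.val_pow_eq_pow_val, h2, Units.val_one]
      have h4 := orderOf_dvd_of_pow_eq_one h3
      rw [hao] at h4
      have := Nat.le_of_dvd hpos h4
      omega
    · exact h2
  obtain ⟨⟨x, y⟩, hxy⟩ := hφ.2 (a : L)
  have hxy' : (a : L) = algebraMap E L x + algebraMap E L y * i := hxy.symm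
  have hfrobE : ∀ t : E, (algebraMap E L t) ^ e = algebraMap E L t := by
    intro t
    rw [← map_pow, he, FiniteField.pow_card]
  have hfi : i ^ e = -i := by
    rw [hw, show 4 * w + 3 = 2 * (2 * w + 1) + 1 by ring, pow_add, pow_mul, pow_two, ← hi, pow_one,
      Odd.neg_one_pow ⟨w, by ring⟩]
    ring
  obtain ⟨⟨f, hf, hcard⟩⟩ : Nonempty {n : ℕ // ∃ _ : n ≠ 0, e = p ^ n} := by
    obtain ⟨n, hn, hn2⟩ := FiniteField.card E p
    exact ⟨⟨n, n.ne_zero, hn2⟩⟩
  haveI : CharP L p := charP_of_injective_algebraMap (algebraMap E L).injective p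
  have hfrob : ∀ s t : L, (s + t) ^ e = s ^ e + t ^ e := by
    intro s t
    rw [hcard]
    exact add_pow_char_pow s t p f
  have hconj : (a : L) ^ e = algebraMap E L x - algebraMap E L y * i := by
    rw [hxy', hfrob, mul_pow, hfrobE, hfrobE, hfi]
    ring
  have hnorm : x ^ 2 + y ^ 2 = -1 := by
    apply (algebraMap E L).injective
    have h := han
    rw [pow_succ, hconj, hxy'] at h
    rw [map_neg, map_one, ← h, map_add, map_pow, map_pow]
    linear_combination (-(algebraMap E L y) ^ 2) * hi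
  refine ⟨x, y, hnorm, fun m hm => ?_⟩
  -- the action
  let ψ : (Fin 2 → E) → L := fun v => algebraMap E L (v 0) + algebraMap E L (v 1) * i
  have hact : ∀ v, ψ ((!![x, -y; y, x] : Matrix (Fin 2) (Fin 2) E).mulVec v) = a * ψ v := by
    intro v
    simp only [ψ, Matrix.mulVec, dotProduct, Fin.sum_univ_two, Matrix.of_apply, Matrix.cons_val', Matrix.cons_val_zero,
      Matrix.cons_val_one, Matrix.cons_val_fin_one, map_add, map_mul, map_neg, hxy']
    linear_combination (algebraMap E L y) * (algebraMap E L (v 1)) * hi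
  have hactp : ∀ (k : ℕ) v, ψ (((!![x, -y; y, x] : Matrix (Fin 2) (Fin 2) E) ^ k).mulVec v) = a ^ k * ψ v := by
    intro k
    induction k with
    | zero => intro v; simp
    | succ k ih =>
      intro v
      rw [pow_succ, ← Matrix.mulVec_mulVec, ih, hact, pow_succ]
      ring
  have h1 := hactp (2 * m) ![1, 0]
  rw [hm, Matrix.smul_mulVec, Matrix.one_mulVec] at h1
  simp only [ψ, Pi.smul_apply, Matrix.cons_val_zero, Matrix.cons_val_one, Matrix.cons_val_fin_one, smul_eq_mul,
    mul_one, mul_zero, map_zero, zero_mul, add_zero, map_one, map_pow, map_neg] at h1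
  -- h1 : (-1) ^ m = a ^ (2 m)
  rw [← han, ← pow_mul] at h1
  have h2 : a ^ ((e + 1) * m) = a ^ (2 * m) := by
    apply Units.ext
    rw [Units.val_pow_eq_pow_val, Units.val_pow_eq_pow_val, h1]
  rw [pow_eq_pow_iff_modEq, hao] at h2
  have h3 : 2 * (e + 1) ∣ (e + 1) * m - 2 * m := (Nat.modEq_iff_dvd' (Nat.mul_le_mul_right m (by omega))).1 h2.symm
  rw [← Nat.sub_mul, show e + 1 - 2 = 2 * (2 * w + 1) by omega, mul_assoc] at h3
  have h5 : e + 1 ∣ (2 * w + 1) * m := Nat.dvd_of_mul_dvd_mul_left (by norm_num) h3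
  have hcop : Nat.Coprime (e + 1) (2 * w + 1) := by
    rw [hw, show 4 * w + 3 + 1 = (2 * w + 1) + ((2 * w + 1) + 2) by ring]
    rw [Nat.coprime_self_add_left, Nat.coprime_self_add_left]
    exact Nat.coprime_two_left.2 ⟨w, rfl⟩
  exact hcop.dvd_of_dvd_mul_left h5

end Rot

section Elt

variable {F : Type} [Field F] [Fintype F]

/-- the plane `x² + y²` is anisotropic -/
theorem aniso_sq {E : Type} [Field E] [Fintype E] (h4 : Fintype.card E % 4 = 3) :
    Cfsg.Agent.H403.Classify.Aniso (0 : E) 1 := by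
  intro z₁ z₂ h
  by_cases hz : z₂ = 0
  · subst hz
    refine ⟨?_, rfl⟩
    have : z₁ ^ 2 = 0 := by linear_combination h
    exact (pow_eq_zero_iff two_ne_zero).1 this
  · exfalso
    apply neg_one_nonsquare h4
    refine ⟨z₁ / z₂, ?_⟩
    field_simp
    linear_combination -h

/-- the rotation of the hyperbolic plane with multiplier `-1` -/
def rotH (F : Type) [Field F] : (F × F) →ₗ[F] (F × F) :=
  (-LinearMap.snd F F F).prod (LinearMap.fst F F F)

omit [Fintype F] in
theorem rotH_apply (v : F × F) : rotH F v = (-v.2, v.1) := rfl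

omit [Fintype F] in
theorem rotH_det : LinearMap.det (rotH F) = 1 := by
  rw [← LinearMap.det_toMatrix (Module.Basis.finTwoProd F), Matrix.det_fin_two]
  simp [LinearMap.toMatrix_apply, rotH_apply]

omit [Fintype F] in
theorem rotH_pow_two (v : F × F) : rotH F (rotH F v) = (-1 : F) • v := by
  rw [rotH_apply, rotH_apply]
  ext <;> simp

/-- **case `q ≡ 3 mod 4`** -/
theorem o_gd_three [CharP F 7] {M : Type u} [Group M] [Finite M]
    (hs : Up8 (Fintype.card F) M) (h4 : Fintype.card F % 4 = 3) {a b : F} (hab : Aniso a b) (fr : OFrame F (Q8 F a b) M)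
    (hmem : ∀ (B : M8 F) (d : F), ¬ IsSquare d → B.det = -d ^ 4 → (∀ v, Q8 F a b (B.mulVec v) = d * Q8 F a b v) →
      ∀ z : Equiv.Perm _, (∀ v, z v = B.mulVec v) → z ∈ fr.H) : False := by
  classical
  obtain ⟨f, hf, hq⟩ := hs.pow
  obtain ⟨r, hr, h3, hrq⟩ := exists_prime_plus hf hq
  haveI : Fact (Nat.Prime 7) := ⟨by norm_num⟩
  haveI : NeZero (3 : ℕ) := ⟨by norm_num⟩
  obtain ⟨E, _, _, _, hE, hfr⟩ := exists_ext F 7 3
  rw [Nat.card_eq_fintype_card, Nat.card_eq_fintype_card] at hE
  haveI : CharP E 7 := charP_of_injective_algebraMap (algebraMap F E).injective 7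
  have hE4 : Fintype.card E % 4 = 3 := by rw [hE, Nat.pow_mod, h4]
  obtain ⟨x, y, hxy, hm⟩ := exists_rot (E := E) 7 hE4
  set q := Fintype.card F with hqq
  have hq1 : 1 < q := Fintype.one_lt_card
  haveI : Module.Finite F E := Module.Finite.of_finite
  -- the space
  let QE : QuadraticForm F (Fin 2 → E) := (Algebra.trace F E).compQuadraticMap' (binForm E 0 1)
  have hQE : ∀ v, QE v = Algebra.trace F E (binForm E 0 1 v) := fun v => rfl
  have hQEn : Nondeg QE := by
    intro x hx
    refine (binForm_nondegenerate (aniso_sq hE4)).1 x fun y => ?_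
    change polar (binForm E 0 1) x y = 0
    have h1 : ∀ c : E, Algebra.trace F E (c * polar (binForm E 0 1) x y) = 0 := by
      intro c
      have h2 := hx (c • y)
      simp only [polar, hQE] at h2
      rw [← map_sub, ← map_sub] at h2
      have h3 : polar (binForm E 0 1) x (c • y) = c * polar (binForm E 0 1) x y := by
        rw [polar_smul_right, smul_eq_mul]
      rw [← h3]
      exact h2
    by_contra hne
    obtain ⟨t, ht⟩ := Algebra.trace_surjective F E 1
    have h5 := h1 (t * (polar (binForm E 0 1) x y)⁻¹)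
    rw [mul_assoc, inv_mul_cancel₀ hne, mul_one, ht] at h5
    exact one_ne_zero h5
  have hQEs : HasSign (⇑QE) 3 (-1) := by
    have h1 := (hasSign_bin (aniso_sq hE4)).res (F := F)
    rw [hfr, mul_one] at h1
    refine h1.congr (Equiv.refl _) fun v => ?_
    rw [Equiv.refl_apply, hQE, binForm_apply]
  have hsign := hQEs.prod (hasSign_mul (F := F))
  obtain ⟨e, he⟩ := exists_minus (m := 4) (by norm_num) (V := (Fin 2 → E) × (F × F)) (by
    rw [Module.finrank_prod, Module.finrank_pi_fintype, Module.finrank_prod]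
    simp [hfr]) (sumQ QE (hypQ F)) (sumQ_nondeg hQEn hypQ_nondeg) hsign hab
  -- the map
  let A : Matrix (Fin 2) (Fin 2) E := !![x, -y; y, x]
  let g : ((Fin 2 → E) × (F × F)) →ₗ[F] ((Fin 2 → E) × (F × F)) :=
    ((Matrix.toLin' A).restrictScalars F).prodMap (rotH F)
  have hg : ∀ v, g v = (A.mulVec v.1, rotH F v.2) := fun v => rfl
  have hgd : LinearMap.det g = -1 := by
    rw [LinearMap.det_prodMap, LinearMap.det_restrictScalars, LinearMap.det_toLin', rotH_det, mul_one]
    have hA : A.det = -1 := by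
      rw [Matrix.det_fin_two_of, ← hxy]
      ring
    rw [hA, show (-1 : E) = algebraMap F E (-1) by simp, Algebra.norm_algebraMap, hfr]
    norm_num
  have hgQ : ∀ v, sumQ QE (hypQ F) (g v) = (-1 : F) * sumQ QE (hypQ F) v := by
    intro v
    rw [sumQ_apply, sumQ_apply, hg, hypQ_apply, hypQ_apply, rotH_apply, hQE, hQE]
    have h1 : binForm E 0 1 (A.mulVec v.1) = - binForm E 0 1 v.1 := by
      rw [binForm_apply, binForm_apply, Cfsg.Agent.H403.Classify.bin, Cfsg.Agent.H403.Classify.bin]
      simp only [A, Matrix.mulVec, dotProduct, Fin.sum_univ_two, Matrix.of_apply, Matrix.cons_val', Matrix.cons_val_zero,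
        Matrix.cons_val_one, Matrix.cons_val_fin_one]
      linear_combination (v.1 0 ^ 2 + v.1 1 ^ 2) * hxy
    rw [h1, map_neg]
    ring
  let B : M8 F := LinearMap.toMatrix' ((e.symm : _ →ₗ[F] _) ∘ₗ g ∘ₗ (e : _ →ₗ[F] _))
  have hB : ∀ v, B.mulVec v = e.symm (g (e v)) := fun v => LinearMap.toMatrix'_mulVec _ v
  have hBd : B.det = - (-1) ^ 4 := by
    rw [LinearMap.det_toMatrix']
    have h1 := LinearMap.det_conj g e.symm
    rw [LinearEquiv.symm_symm, hgd] at h1
    rw [h1]
    norm_num
  have hBQ : ∀ v, Q8 F a b (B.mulVec v) = (-1 : F) * Q8 F a b v := by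
    intro v
    have h1 := he (B.mulVec v)
    rw [hB, LinearEquiv.apply_symm_apply, hgQ, he] at h1
    rw [hB]
    exact h1.symm
  have hns := neg_one_nonsquare h4
  obtain ⟨z, hz⟩ := exists_perm B (by rw [hBd]; norm_num)
  have hzH := hmem B (-1) hns hBd hBQ z hz
  have hn : q ^ 3 + 1 = (q + 1) * (q ^ 2 - q + 1) := by
    have hqq : q ≤ q ^ 2 := by nlinarith
    zify [hqq]
    ring
  have hdvd : 2 * ((q + 1) * r) ∣ orderOf (fr.Φ ⟨z, hzH⟩) := by
    apply dvd_orderOf_of
    intro n t ht
    have h1 := pow_eq_smul hz ht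
    have h2 : ∀ v, (g ^ n) v = t • v := by
      intro v
      have h5 : ∀ (k : ℕ) v, (B ^ k).mulVec v = e.symm ((g ^ k) (e v)) := by
        intro k
        induction k with
        | zero => intro v; simp
        | succ k ih =>
          intro v
          rw [pow_succ, ← Matrix.mulVec_mulVec, ih, hB, LinearEquiv.apply_symm_apply, pow_succ]
          rfl
      have h6 := h5 n (e.symm v)
      rw [h1, Matrix.smul_mulVec, Matrix.one_mulVec, LinearEquiv.apply_symm_apply] at h6
      have h7 := congrArg e h6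
      rw [LinearEquiv.apply_symm_apply, map_smul, LinearEquiv.apply_symm_apply] at h7
      exact h7.symm
    have h5 : ∀ (k : ℕ) v, (g ^ k) v = ((A ^ k).mulVec v.1, ((rotH F) ^ k) v.2) := by
      intro k
      induction k with
      | zero => intro v; simp
      | succ k ih =>
        intro v
        rw [pow_succ, Module.End.mul_apply, ih, hg, Matrix.mulVec_mulVec, ← pow_succ, pow_succ (rotH F)]
        rfl
    have h6 : ∀ v, (A ^ n).mulVec v = t • v := by
      intro v
      have := h2 (v, 0)
      rw [h5] at this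
      exact congrArg Prod.fst this
    have h7 : ∀ v, ((rotH F) ^ n) v = t • v := by
      intro v
      have := h2 (0, v)
      rw [h5] at this
      exact congrArg Prod.snd this
    have h8 : ∀ (k : ℕ) v, ((rotH F) ^ (2 * k)) v = ((-1 : F) ^ k) • v := by
      intro k
      induction k with
      | zero => intro v; simp
      | succ k ih =>
        intro v
        rw [mul_add, mul_one, pow_add, Module.End.mul_apply, pow_two, Module.End.mul_apply, rotH_pow_two, map_smul,
          ih, smul_smul, pow_succ, mul_comm]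
    obtain ⟨m, rfl, rfl⟩ : ∃ m, n = 2 * m ∧ t = (-1 : F) ^ m := by
      rcases Nat.even_or_odd' n with ⟨m, rfl | rfl⟩
      · refine ⟨m, rfl, ?_⟩
        have h9 := h7 (1, 0)
        rw [h8] at h9
        have h10 := congrArg Prod.fst h9
        simpa using h10.symm
      · exfalso
        apply hns
        have h9 : ((rotH F) ^ (2 * (2 * m + 1))) (1, 0) = (t * t) • ((1, 0) : F × F) := by
          rw [two_mul (2 * m + 1), pow_add, Module.End.mul_apply, h7, h7, smul_smul]
        rw [h8, Odd.neg_one_pow ⟨m, rfl⟩] at h9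
        have h10 := congrArg Prod.fst h9
        refine ⟨t, ?_⟩
        simpa using h10
    have h9 : A ^ (2 * m) = (-1 : E) ^ m • (1 : Matrix (Fin 2) (Fin 2) E) := by
      apply Matrix.ext_of_mulVec_single
      intro i
      rw [h6, Matrix.smul_mulVec, Matrix.one_mulVec]
      ext j
      rw [Pi.smul_apply, Pi.smul_apply, Algebra.smul_def, map_pow, map_neg, map_one, smul_eq_mul]
    have h10 := hm m h9
    rw [hE, hn] at h10
    exact Nat.mul_dvd_mul_left 2 ((Nat.mul_dvd_mul_left _ hrq).trans h10)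
  exact no_plus hs h4 hr h3 hrq _ hdvd

/-- **T8**: no similitude of the second kind -/
theorem o_gd [CharP F 7] {M : Type u} [Group M] [Finite M]
    (hs : Up8 (Fintype.card F) M) {a b : F} (hab : Aniso a b) (fr : OFrame F (Q8 F a b) M)
    (A : M8 F) {c : F} (hc : ¬ IsSquare c) (hd : A.det = -c ^ 4) (hA : ∀ v, Q8 F a b (A.mulVec v) = c * Q8 F a b v)
    (y : ↥fr.H) (hy : ∀ v, y.1 v = A.mulVec v) : False := by
  have ho : Odd (Fintype.card F) := by
    obtain ⟨f, -, hq⟩ := hs.pow
    rw [hq]
    exact Odd.pow (by decide)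
  have hmem : ∀ (B : M8 F) (d : F), ¬ IsSquare d → B.det = -d ^ 4 → (∀ v, Q8 F a b (B.mulVec v) = d * Q8 F a b v) →
      ∀ z : Equiv.Perm _, (∀ v, z v = B.mulVec v) → z ∈ fr.H :=
    fun B d hd' hBd hB z hz => mem_of_sim ho hab fr A hc hd hA y hy B hd' hBd hB z hz
  have h4 : Fintype.card F % 4 = 1 ∨ Fintype.card F % 4 = 3 := by
    have := Nat.odd_iff.1 ho
    omega
  rcases h4 with h4 | h4
  · exact o_gd_one hs h4 hab fr hmem
  · exact o_gd_three hs h4 hab fr hmem

end Elt

end Cfsg.Agent.H79.S69
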