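import Cfsg.Agent.H79.S69.SpTwo

/-!
# S3469 (recognition of `PSp₈(7^m)`): no field automorphism of order 2, nonsquare multiplier (helper79)
-/

set_option autoImplicit false
set_option linter.style.haveILetI false

universe u

namespace Cfsg.Agent.H79.S69

open Cfsg Cfsg.Agent.H903.SylSemi Cfsg.Agent.H214.S69 Cfsg.Agent

/-- the fixed field of an automorphism of order 2 -/
theorem exists_fixed {F : Type} [Field F] [Fintype F] (θ : F ≃+* F) (hθ : orderOf θ = 2) :
    ∃ (K : Subfield F), (∀ x ∈ K, θ x = x) ∧ Nat.card F = Nat.card K ^ 2 := by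
  classical
  let G := Subgroup.zpowers (θ : RingAut F)
  have hG : Nat.card G = 2 := by rw [Nat.card_zpowers]; exact hθ
  haveI : Finite G := Nat.finite_of_card_ne_zero (by rw [hG]; norm_num)
  letI : Fintype G := Fintype.ofFinite G
  refine ⟨FixedPoints.subfield G F, fun x hx => hx ⟨θ, Subgroup.mem_zpowers θ⟩, ?_⟩
  have h1 := FixedPoints.finrank_eq_card G F
  rw [← Nat.card_eq_fintype_card, hG] at h1
  rw [Module.natCard_eq_pow_finrank (K := FixedPoints.subfield G F) (V := F), h1]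

section Elt

variable {F : Type} [Field F]

/-- the semilinear map -/
noncomputable def gB (θ : F ≃+* F) (X : Matrix (Fin 3) (Fin 3) F) (ν : F) (v : Fin 4 ⊕ Fin 4 → F) :
    Fin 4 ⊕ Fin 4 → F :=
  Sum.elim (Fin.snoc (α := fun _ => F) (X.mulVec (fun j => θ (v (.inl j.castSucc)))) (θ (v (.inr (Fin.last 3)))))
    (Fin.snoc (α := fun _ => F) (ν • ((X⁻¹).transpose.mulVec (fun j => θ (v (.inr j.castSucc)))))
      (-ν * θ (v (.inl (Fin.last 3)))))

variable {θ : F ≃+* F} {X : Matrix (Fin 3) (Fin 3) F} {ν : F}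

theorem gB_1 (v : Fin 4 ⊕ Fin 4 → F) (j : Fin 3) :
    gB θ X ν v (.inl j.castSucc) = X.mulVec (fun j => θ (v (.inl j.castSucc))) j := by
  rw [gB, Sum.elim_inl, Fin.snoc_castSucc]

theorem gB_2 (v : Fin 4 ⊕ Fin 4 → F) : gB θ X ν v (.inl (Fin.last 3)) = θ (v (.inr (Fin.last 3))) := by
  rw [gB, Sum.elim_inl, Fin.snoc_last]

theorem gB_3 (v : Fin 4 ⊕ Fin 4 → F) (j : Fin 3) :
    gB θ X ν v (.inr j.castSucc) = ν * (X⁻¹).transpose.mulVec (fun j => θ (v (.inr j.castSucc))) j := by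
  rw [gB, Sum.elim_inr, Fin.snoc_castSucc]
  rfl

theorem gB_4 (v : Fin 4 ⊕ Fin 4 → F) : gB θ X ν v (.inr (Fin.last 3)) = -ν * θ (v (.inl (Fin.last 3))) := by
  rw [gB, Sum.elim_inr, Fin.snoc_last]

theorem gB_add (u v : Fin 4 ⊕ Fin 4 → F) : gB θ X ν (u + v) = gB θ X ν u + gB θ X ν v := by
  funext i
  rw [Pi.add_apply]
  rcases i with i | i <;> refine Fin.lastCases ?_ (fun j => ?_) i
  · rw [gB_2, gB_2, gB_2, Pi.add_apply, map_add]
  · rw [gB_1, gB_1, gB_1, ← Pi.add_apply, ← Matrix.mulVec_add]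
    congr 2
    funext j
    exact map_add θ _ _
  · rw [gB_4, gB_4, gB_4, Pi.add_apply, map_add]
    ring
  · rw [gB_3, gB_3, gB_3, ← mul_add, ← Pi.add_apply, ← Matrix.mulVec_add]
    congr 3
    funext j
    exact map_add θ _ _

theorem gB_smul (a : F) (v : Fin 4 ⊕ Fin 4 → F) : gB θ X ν (a • v) = θ a • gB θ X ν v := by
  funext i
  rw [Pi.smul_apply, smul_eq_mul]
  rcases i with i | i <;> refine Fin.lastCases ?_ (fun j => ?_) i
  · rw [gB_2, gB_2, Pi.smul_apply, smul_eq_mul, map_mul]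
  · rw [gB_1, gB_1, ← smul_eq_mul, ← Pi.smul_apply, ← Matrix.mulVec_smul]
    congr 2
    funext j
    exact map_mul θ _ _
  · rw [gB_4, gB_4, Pi.smul_apply, smul_eq_mul, map_mul]
    ring
  · rw [gB_3, gB_3, mul_left_comm, ← smul_eq_mul (θ a), ← Pi.smul_apply, ← Matrix.mulVec_smul]
    congr 3
    funext j
    exact map_mul θ _ _

theorem dot_aux (hX : X.det ≠ 0) (x y : Fin 3 → F) :
    ∑ j, (X⁻¹).transpose.mulVec y j * X.mulVec x j = ∑ j, y j * x j := by
  have hu : IsUnit X.det := isUnit_iff_ne_zero.2 hX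
  have h1 : ((X⁻¹).transpose.mulVec y) ⬝ᵥ (X.mulVec x) = y ⬝ᵥ x := by
    rw [Matrix.dotProduct_mulVec, Matrix.mulVec_transpose, Matrix.vecMul_vecMul, Matrix.nonsing_inv_mul _ hu,
      Matrix.vecMul_one]
  exact h1

theorem form_split (u v : Fin 4 ⊕ Fin 4 → F) :
    Cfsg.sympForm 4 F u v = (∑ j : Fin 3, (u (.inr j.castSucc) * v (.inl j.castSucc) -
      u (.inl j.castSucc) * v (.inr j.castSucc))) +
      (u (.inr (Fin.last 3)) * v (.inl (Fin.last 3)) - u (.inl (Fin.last 3)) * v (.inr (Fin.last 3))) := by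
  rw [form_eq, Fin.sum_univ_castSucc]

theorem gB_form (hX : X.det ≠ 0) (u v : Fin 4 ⊕ Fin 4 → F) :
    Cfsg.sympForm 4 F (gB θ X ν u) (gB θ X ν v) = ν * θ (Cfsg.sympForm 4 F u v) := by
  rw [form_split, form_split, map_add, mul_add]
  congr 1
  · simp only [gB_1, gB_3]
    have h1 := dot_aux hX (fun j => θ (v (.inl j.castSucc))) (fun j => θ (u (.inr j.castSucc)))
    have h2 := dot_aux hX (fun j => θ (u (.inl j.castSucc))) (fun j => θ (v (.inr j.castSucc)))
    have h3 : ∑ j : Fin 3, (ν * (X⁻¹).transpose.mulVec (fun j => θ (u (.inr j.castSucc))) j *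
        X.mulVec (fun j => θ (v (.inl j.castSucc))) j - X.mulVec (fun j => θ (u (.inl j.castSucc))) j *
        (ν * (X⁻¹).transpose.mulVec (fun j => θ (v (.inr j.castSucc))) j)) =
        ν * ((∑ j : Fin 3, (X⁻¹).transpose.mulVec (fun j => θ (u (.inr j.castSucc))) j *
        X.mulVec (fun j => θ (v (.inl j.castSucc))) j) - ∑ j : Fin 3,
        (X⁻¹).transpose.mulVec (fun j => θ (v (.inr j.castSucc))) j *
        X.mulVec (fun j => θ (u (.inl j.castSucc))) j) := by
      rw [← Finset.sum_sub_distrib, Finset.mul_sum]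
      exact Finset.sum_congr rfl fun j _ => by ring
    rw [h3, h1, h2, map_sum, ← Finset.sum_sub_distrib]
    congr 1
    refine Finset.sum_congr rfl fun j _ => ?_
    rw [map_sub, map_mul, map_mul]
    ring
  · rw [gB_2, gB_2, gB_4, gB_4, map_sub, map_mul, map_mul]
    ring

/-- **the case of a nonsquare multiplier** -/
theorem sp_two_nonsq [Fintype F] [CharP F 7] {M : Type u} [Group M] [Finite M]
    (hs : Up8 (Fintype.card F) M) (fr : SpFrame F 4 M) (y : ↥fr.H) {θ : F ≃+* F} (hy : Semi F y.1 θ)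
    (hθ : orderOf θ = 2) {τ : F} (hτ : τ ≠ 0)
    (hyf : ∀ u v, Cfsg.sympForm 4 F (y.1 u) (y.1 v) = τ * θ (Cfsg.sympForm 4 F u v)) (hsq : ¬ IsSquare τ) : False := by
  classical
  have hθ2 : ∀ x, θ (θ x) = x := by
    intro x
    have h1 := pow_orderOf_eq_one θ
    rw [hθ, pow_two] at h1
    exact DFunLike.congr_fun h1 x
  have ho : Odd (Fintype.card F) := by
    obtain ⟨f, -, hq⟩ := hs.pow
    rw [hq]
    exact Odd.pow (by decide)
  obtain ⟨K, hK, hcard⟩ := exists_fixed θ hθ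
  letI : Fintype K := Fintype.ofFinite K
  haveI : Fact (Nat.Prime 7) := ⟨by norm_num⟩
  haveI : CharP K 7 := RingHom.charP (algebraMap K F) (algebraMap K F).injective 7
  obtain ⟨n, -, hn⟩ := FiniteField.card K 7
  rw [Nat.card_eq_fintype_card, Nat.card_eq_fintype_card] at hcard
  set q₀ := Fintype.card K with hq₀
  set q := Fintype.card F with hqq
  obtain ⟨r, hr, h3, hrq₀⟩ := exists_prime_minus (q := q₀) (f := n) n.pos hn
  have hq01 : 1 < q₀ := Fintype.one_lt_card
  have hq1 : 1 < q := Fintype.one_lt_card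
  have hrq : r ∣ q ^ 2 + q + 1 := by
    have h1 : q ^ 2 + q + 1 = (q₀ ^ 2 + q₀ + 1) * (q₀ ^ 2 - q₀ + 1) := by
      have h2 : q₀ ≤ q₀ ^ 2 := by nlinarith
      rw [hcard]
      zify [h2]
      ring
    rw [h1]
    exact hrq₀.mul_right _
  have h4 : q % 4 = 1 := by
    have h5 : q % 2 = 1 := Nat.odd_iff.1 ho
    have h6 : q₀ % 4 = 1 ∨ q₀ % 4 = 3 := by
      have h7 : q₀ % 2 = 1 := by
        have h8 : q₀ % 2 = 0 ∨ q₀ % 2 = 1 := by omega
        rcases h8 with h8 | h8
        · rw [hcard, Nat.pow_mod, h8] at h5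
          norm_num at h5
        · exact h8
      omega
    rcases h6 with h6 | h6 <;> rw [hcard, Nat.pow_mod, h6]
  have hr1 : ¬ r ∣ q - 1 := by
    intro h6
    have h7 : r ∣ 3 := by
      have h8 : q ^ 2 + q + 1 = (q - 1) * (q + 2) + 3 := by
        zify [hq1.le]
        ring
      rw [h8] at hrq
      exact (Nat.dvd_add_right (h6.mul_right _)).1 hrq
    have := Nat.le_of_dvd (by norm_num) h7
    omega
  -- the matrix
  have s3 : q₀ ^ 3 - 1 = (q₀ - 1) * (q₀ ^ 2 + q₀ + 1) := by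
    have p3 : 1 ≤ q₀ ^ 3 := Nat.one_le_pow _ _ (by omega)
    zify [p3, hq01.le]
    ring
  obtain ⟨X₀, hX₀⟩ := exists_X K hr (by
    rw [Nat.card_eq_fintype_card, ← hq₀, s3]
    exact hrq₀.mul_left _)
  let φ : Matrix (Fin 3) (Fin 3) K →+* Matrix (Fin 3) (Fin 3) F := (algebraMap K F).mapMatrix
  have hφ : Function.Injective φ := Matrix.map_injective (algebraMap K F).injective
  set X : Matrix (Fin 3) (Fin 3) F := φ X₀.val with hX
  have hXo : orderOf X = r := by
    have h1 := orderOf_injective φ.toMonoidHom hφ X₀.val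
    rw [orderOf_units, hX₀] at h1
    exact h1
  have hXd : X.det ≠ 0 := by
    have h1 : X.det = algebraMap K F X₀.val.det := (RingHom.map_det (algebraMap K F) X₀.val).symm
    rw [h1]
    exact (map_ne_zero _).2 (Matrix.isUnits_det_units X₀).ne_zero
  have hXθ : ∀ i j, θ (X i j) = X i j := fun i j => hK _ (X₀.val i j).2
  have hXθv : ∀ w : Fin 3 → F, (fun i => θ (X.mulVec w i)) = X.mulVec (fun i => θ (w i)) := by
    intro w
    funext i
    simp only [Matrix.mulVec, dotProduct, map_sum, map_mul, hXθ]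
  obtain ⟨τ₀, hτ₀, hτ1, hτ2⟩ := exists_gen (F := F) ho
  have hτ₀0 : τ₀ ≠ 0 := by rintro rfl; exact hτ₀ ⟨0, by ring⟩
  have hg := gB_form (θ := θ) (ν := -τ₀) hXd
  obtain ⟨z, hz⟩ := exists_perm_semi (gB θ X (-τ₀)) gB_add (neg_ne_zero.2 hτ₀0) hg
  have hzs : Semi F z θ := ⟨fun u v => by rw [hz, hz, hz, gB_add], fun a v => by rw [hz, hz, gB_smul]⟩
  obtain ⟨s, hsτ⟩ : IsSquare (-τ₀ / τ) := by
    rw [← quadraticChar_one_iff_isSquare (div_ne_zero (neg_ne_zero.2 hτ₀0) hτ), div_eq_mul_inv, map_mul]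
    have e1 : quadraticChar F (-τ₀) = -1 := by
      rw [quadraticChar_neg_one_iff_not_isSquare]
      intro h5
      apply hτ₀
      have h6 : IsSquare (-1 : F) := FiniteField.isSquare_neg_one_iff.2 (by omega)
      have h7 := h6.mul h5
      rwa [neg_one_mul, neg_neg] at h7
    have e2 : quadraticChar F τ⁻¹ = -1 := by
      rw [quadraticChar_neg_one_iff_not_isSquare, isSquare_inv]
      exact hsq
    rw [e1, e2]
    norm_num
  have hsτ' : -τ₀ = s * s * τ := by rw [← hsτ, div_mul_cancel₀ _ hτ]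
  have hs0 : s ≠ 0 := by
    rintro rfl
    rw [zero_mul, zero_mul, neg_eq_zero] at hsτ'
    exact hτ₀0 hsτ'
  have hzH : z ∈ fr.H := mem_of_semi fr y hy hτ hyf z hzs hs0 (by
    intro u v
    rw [hz, hz, hg, hsτ'])
  have hdvd : 2 * ((q - 1) * r) ∣ orderOf (fr.Φ ⟨z, hzH⟩) := by
    apply dvd_orderOf_sp
    intro k t ht
    have h2 : 2 ∣ k := hθ ▸ orderOf_dvd_of_semi hzs ht
    obtain ⟨m, rfl⟩ := h2
    refine Nat.mul_dvd_mul_left 2 ?_
    have hz2 : ∀ v, (z ^ 2) v = gB θ X (-τ₀) (gB θ X (-τ₀) v) := by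
      intro v
      rw [pow_two, Equiv.Perm.mul_apply, hz, hz]
    have c1 : ∀ (j : ℕ) v, (fun i : Fin 3 => (z ^ (2 * j)) v (.inl i.castSucc)) =
        (X ^ (2 * j)).mulVec (fun i : Fin 3 => v (.inl i.castSucc)) := by
      intro j
      induction j with
      | zero => intro v; simp
      | succ j ih =>
        intro v
        rw [mul_add, mul_one, pow_add, pow_add, Equiv.Perm.mul_apply, ih, hz2, ← Matrix.mulVec_mulVec]
        congr 1
        funext i
        rw [gB_1, pow_two, ← Matrix.mulVec_mulVec]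
        congr 2
        have h5 : (fun j : Fin 3 => θ (gB θ X (-τ₀) v (.inl j.castSucc))) =
            (fun j : Fin 3 => θ (X.mulVec (fun j => θ (v (.inl j.castSucc))) j)) := by
          funext j
          rw [gB_1]
        rw [h5, hXθv]
        congr 1
        funext j
        exact hθ2 _
    have c2 : ∀ (j : ℕ) v, (z ^ (2 * j)) v (.inr (Fin.last 3)) = τ₀ ^ j * v (.inr (Fin.last 3)) := by
      intro j
      induction j with
      | zero => intro v; simp
      | succ j ih =>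
        intro v
        rw [mul_add, mul_one, pow_add, Equiv.Perm.mul_apply, ih, hz2, gB_4, gB_2, hθ2, neg_neg, pow_succ, mul_assoc]
    have ht1 : t = τ₀ ^ m := by
      have h5 := c2 m (Pi.single (.inr (Fin.last 3)) 1)
      rw [ht] at h5
      simpa using h5
    have hX1 : X ^ (2 * m) = τ₀ ^ m • (1 : Matrix (Fin 3) (Fin 3) F) := by
      apply Matrix.ext_of_mulVec_single
      intro i
      have h5 := c1 m (Pi.single (.inl i.castSucc) 1)
      have h6 : (fun j : Fin 3 => (Pi.single (.inl i.castSucc) 1 : Fin 4 ⊕ Fin 4 → F) (.inl j.castSucc)) =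
          Pi.single i 1 := by
        funext j
        by_cases hij : j = i
        · subst hij
          simp
        · rw [Pi.single_eq_of_ne hij, Pi.single_eq_of_ne]
          intro h7
          exact hij (Fin.castSucc_injective _ (Sum.inl_injective h7))
      rw [h6] at h5
      rw [← h5, Matrix.smul_mulVec, Matrix.one_mulVec]
      funext j
      rw [ht, Pi.smul_apply, Pi.smul_apply, ← h6, ht1]
    exact arith hτ1 hr (by omega) hr1 hτ2 X hXo hX1
  exact no_minus hs h4 hr h3 hrq _ hdvd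

/-- **T5b** -/
theorem sp_two [Fintype F] [CharP F 7] {M : Type u} [Group M] [Finite M]
    (hs : Up8 (Fintype.card F) M) (fr : SpFrame F 4 M) (y : ↥fr.H) {θ : F ≃+* F} (hy : Semi F y.1 θ) :
    orderOf θ ≠ 2 := by
  intro hθ
  obtain ⟨θ', τ, hτ, hy', hyf⟩ := fr.semi y.1 y.2
  obtain rfl := semi_unique hy hy'
  by_cases hsq : IsSquare τ
  · exact sp_two_sq hs.no98 fr y hy hθ hτ hyf hsq
  · exact sp_two_nonsq hs fr y hy hθ hτ hyf hsq

end Elt

end Cfsg.Agent.H79.S69
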