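import Cfsg.Agent.H214.S69.Defs
import Cfsg.Agent.H377.Types
import Cfsg.Agent.S0791
import Cfsg.Agent.ClassicalGeometry.OmegaIndex

/-!
# S3469 (recognition of `PSp₈(7^m)`): cosets of similitudes of a form of minus type in dimension 8 (helper79)

* `so_cases` : `SO₈⁻(q) = {±1} × Ω₈⁻(q)`;
* `mem_of_isom`, `mem_of_sim` : membership in the group of an `OFrame`.
-/

set_option autoImplicit false
set_option linter.style.haveILetI false

universe u

namespace Cfsg.Agent.H79.S69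

open Cfsg Cfsg.Agent.H903.SylSemi Cfsg.Agent.H214.S69 Cfsg.Agent
open QuadraticMap Cfsg.Agent.ClassicalGeometry.SpinorSign Cfsg.Agent.ClassicalGeometry.OmegaIndex

/-- the standard form of minus type in dimension 8 -/
abbrev Q8 (F : Type*) [Field F] (a b : F) : ((Fin 3 ⊕ Fin 3) ⊕ Fin 2 → F) → F := Cfsg.quadFormMinus 3 F a b

/-- 8 by 8 matrices -/
abbrev M8 (F : Type*) [Field F] := Matrix ((Fin 3 ⊕ Fin 3) ⊕ Fin 2) ((Fin 3 ⊕ Fin 3) ⊕ Fin 2) F

section Gen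

variable {ι : Type} [Fintype ι] [DecidableEq ι] {F : Type*} [Field F] [Finite F]

theorem so_cases_aux (h2 : (2 : F) ≠ 0) (Q : QuadraticForm F (ι → F)) (hQ : (polarBilin Q).Nondegenerate)
    (hn : 2 ≤ Fintype.card ι) (hev : Even (Fintype.card ι))
    (hneg : ¬ ∃ g : ↥(Cfsg.isometryGroup F (⇑Q)), g ∈ Cfsg.Omega F (⇑Q) ∧
      ((g : Matrix.GeneralLinearGroup ι F) : Matrix ι ι F) = -1)
    (B : Matrix ι ι F) (hd : B.det = 1) (hB : ∀ v, Q (B.mulVec v) = Q v) :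
    (∃ s : ↥(Cfsg.Omega F (⇑Q)), (((s : ↥(Cfsg.isometryGroup F (⇑Q))) : Matrix.GeneralLinearGroup ι F) :
      Matrix ι ι F) = B) ∨
    (∃ s : ↥(Cfsg.Omega F (⇑Q)), (((s : ↥(Cfsg.isometryGroup F (⇑Q))) : Matrix.GeneralLinearGroup ι F) :
      Matrix ι ι F) = -B) := by
  classical
  have hd0 : IsUnit B.det := by rw [hd]; exact isUnit_one
  let g0 : Matrix.GeneralLinearGroup ι F := Matrix.GeneralLinearGroup.mk'' B hd0
  have hg0 : (g0 : Matrix ι ι F) = B := rfl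
  have hg1 : g0 ∈ Cfsg.isometryGroup F (⇑Q) := fun v _ => hB v
  let g : ↥(Cfsg.isometryGroup F (⇑Q)) := ⟨g0, hg1⟩
  have hn1 : (-1 : Matrix.GeneralLinearGroup ι F) ∈ Cfsg.isometryGroup F (⇑Q) := by
    intro v _
    change Q (((-1 : Matrix.GeneralLinearGroup ι F) : Matrix ι ι F).mulVec v) = Q v
    rw [Units.val_neg, Units.val_one, Matrix.neg_mulVec, Matrix.one_mulVec, QuadraticMap.map_neg]
  let n : ↥(Cfsg.isometryGroup F (⇑Q)) := ⟨-1, hn1⟩
  have hnd : ((n : Matrix.GeneralLinearGroup ι F) : Matrix ι ι F).det = 1 := by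
    change ((-1 : Matrix.GeneralLinearGroup ι F) : Matrix ι ι F).det = 1
    rw [Units.val_neg, Units.val_one, Matrix.det_neg, Matrix.det_one, hev.neg_one_pow, one_mul]
  have h1 : spinorSign (⇑Q) 1 n ≠ 1 := by
    intro h
    exact hneg ⟨n, (mem_Omega_iff h2 Q hQ hn one_ne_zero n).2 ⟨hnd, h⟩, by
      change ((-1 : Matrix.GeneralLinearGroup ι F) : Matrix ι ι F) = -1
      rw [Units.val_neg, Units.val_one]⟩
  have h3 : spinorSign (⇑Q) 1 n = -1 := (Int.units_eq_one_or _).resolve_left h1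
  rcases Int.units_eq_one_or (spinorSign (⇑Q) 1 g) with h4 | h4
  · left
    exact ⟨⟨g, (mem_Omega_iff h2 Q hQ hn one_ne_zero g).2 ⟨hd, h4⟩⟩, rfl⟩
  · right
    have h5 : spinorSign (⇑Q) 1 (n * g) = 1 := by rw [map_mul, h3, h4]; rfl
    have h6 : (((n * g : ↥(Cfsg.isometryGroup F (⇑Q))) : Matrix.GeneralLinearGroup ι F) : Matrix ι ι F) = -B := by
      change (((-1 : Matrix.GeneralLinearGroup ι F) * g0 : Matrix.GeneralLinearGroup ι F) : Matrix ι ι F) = -B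
      rw [Units.val_mul, Units.val_neg, Units.val_one, hg0, neg_mul, one_mul]
    refine ⟨⟨n * g, (mem_Omega_iff h2 Q hQ hn one_ne_zero (n * g)).2 ⟨?_, h5⟩⟩, h6⟩
    rw [h6, Matrix.det_neg, hd, hev.neg_one_pow, one_mul]

theorem so_cases_fun (h2 : (2 : F) ≠ 0) (Q : QuadraticForm F (ι → F)) (Q' : (ι → F) → F) (hQQ : ⇑Q = Q')
    (hQ : (polarBilin Q).Nondegenerate)
    (hn : 2 ≤ Fintype.card ι) (hev : Even (Fintype.card ι))
    (hneg : ¬ ∃ g : ↥(Cfsg.isometryGroup F Q'), g ∈ Cfsg.Omega F Q' ∧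
      ((g : Matrix.GeneralLinearGroup ι F) : Matrix ι ι F) = -1)
    (B : Matrix ι ι F) (hd : B.det = 1) (hB : ∀ v, Q' (B.mulVec v) = Q' v) :
    (∃ s : ↥(Cfsg.Omega F Q'), (((s : ↥(Cfsg.isometryGroup F Q')) : Matrix.GeneralLinearGroup ι F) :
      Matrix ι ι F) = B) ∨
    (∃ s : ↥(Cfsg.Omega F Q'), (((s : ↥(Cfsg.isometryGroup F Q')) : Matrix.GeneralLinearGroup ι F) :
      Matrix ι ι F) = -B) := by
  subst hQQ
  exact so_cases_aux h2 Q hQ hn hev hneg B hd hB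

end Gen

section Eight

variable {F : Type} [Field F] [Fintype F]

theorem two_ne_zero_of_odd (ho : Odd (Fintype.card F)) : (2 : F) ≠ 0 := by
  have hchar : ringChar F ≠ 2 := by
    intro h
    have := FiniteField.even_card_of_char_two h
    obtain ⟨k, hk⟩ := ho
    omega
  exact Ring.two_ne_zero hchar

/-- `SO₈⁻(q) = {±1} × Ω₈⁻(q)` -/
theorem so_cases (ho : Odd (Fintype.card F)) {a b : F} (hab : Aniso a b) (B : M8 F) (hd : B.det = 1)
    (hB : ∀ v, Q8 F a b (B.mulVec v) = Q8 F a b v) :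
    (∃ s : ↥(Cfsg.Omega F (Q8 F a b)), (((s : ↥(Cfsg.isometryGroup F (Q8 F a b))) :
      Matrix.GeneralLinearGroup ((Fin 3 ⊕ Fin 3) ⊕ Fin 2) F) : M8 F) = B) ∨
    (∃ s : ↥(Cfsg.Omega F (Q8 F a b)), (((s : ↥(Cfsg.isometryGroup F (Q8 F a b))) :
      Matrix.GeneralLinearGroup ((Fin 3 ⊕ Fin 3) ⊕ Fin 2) F) : M8 F) = -B) := by
  refine so_cases_fun (two_ne_zero_of_odd ho)
    (Cfsg.Agent.LieClassical.OrthForms.minusForm 3 F a b) (Q8 F a b) (Cfsg.Agent.LieClassical.OrthForms.coe_minusForm _ _ _ _)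
    (Cfsg.Agent.H377.nondegenerate_of_nondeg (Cfsg.Agent.LieClassical.OrthForms.nondeg_minusForm 3 F a b hab))
    (by simp) ⟨4, by simp⟩ ?_ B hd hB
  intro hg
  have h1 := (Cfsg.Agent.S0791.result (F := F) (q := Fintype.card F) rfl ho 4 (by norm_num) a b hab).1 hg
  obtain ⟨k, hk⟩ := ho
  have h2 : Fintype.card F ^ 4 % 4 = 1 := by
    have h3 : Fintype.card F % 4 = 1 ∨ Fintype.card F % 4 = 3 := by omega
    rcases h3 with h3 | h3 <;> rw [Nat.pow_mod, h3]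
  omega

variable {M : Type u} [Group M] {a b : F}

theorem mem_of_isom (ho : Odd (Fintype.card F)) (hab : Aniso a b) (fr : OFrame F (Q8 F a b) M) (B : M8 F)
    (hd : B.det = 1) (hB : ∀ v, Q8 F a b (B.mulVec v) = Q8 F a b v) (z : Equiv.Perm _)
    (hz : ∀ v, z v = B.mulVec v) : z ∈ fr.H := by
  rcases so_cases ho hab B hd hB with ⟨s, hs⟩ | ⟨s, hs⟩
  · exact fr.omega z ⟨s, fun v => by rw [hs, hz]⟩
  · have h1 : scal F _ (-1 : Fˣ) * z ∈ fr.H := by
      refine fr.omega _ ⟨s, fun v => ?_⟩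
      rw [hs, Equiv.Perm.mul_apply, scal_apply, hz, Units.val_neg, Units.val_one, Matrix.neg_mulVec,
        neg_smul, one_smul]
    have h2 := fr.H.mul_mem (fr.H.inv_mem (fr.scal_mem (-1))) h1
    rwa [inv_mul_cancel_left] at h2

/-- all improper similitudes of nonsquare multiplier are in `H` if one of them is -/
theorem mem_of_sim (ho : Odd (Fintype.card F)) (hab : Aniso a b) (fr : OFrame F (Q8 F a b) M)
    (A : M8 F) {c : F} (hc : ¬ IsSquare c) (hd : A.det = -c ^ 4)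
    (hA : ∀ v, Q8 F a b (A.mulVec v) = c * Q8 F a b v) (y : ↥fr.H) (hy : ∀ v, y.1 v = A.mulVec v)
    (B : M8 F) {d : F} (hd' : ¬ IsSquare d) (hBd : B.det = -d ^ 4)
    (hB : ∀ v, Q8 F a b (B.mulVec v) = d * Q8 F a b v) (z : Equiv.Perm _) (hz : ∀ v, z v = B.mulVec v) :
    z ∈ fr.H := by
  classical
  have h2 := two_ne_zero_of_odd ho
  have hc0 : c ≠ 0 := by rintro rfl; exact hc ⟨0, by ring⟩
  have hd0 : d ≠ 0 := by rintro rfl; exact hd' ⟨0, by ring⟩
  have hF : ringChar F ≠ 2 := by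
    intro hch
    apply h2
    have := ringChar.Nat.cast_ringChar (R := F)
    rw [hch] at this
    exact_mod_cast this
  obtain ⟨s, hs⟩ : IsSquare (d / c) := by
    rw [← quadraticChar_one_iff_isSquare (div_ne_zero hd0 hc0), div_eq_mul_inv, map_mul]
    have e1 : quadraticChar F d = -1 := (quadraticChar_neg_one_iff_not_isSquare).2 hd'
    have e2 : quadraticChar F c⁻¹ = -1 := by
      rw [quadraticChar_neg_one_iff_not_isSquare, isSquare_inv]
      exact hc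
    rw [e1, e2]
    norm_num
  have hds : d = s * s * c := by rw [← hs, div_mul_cancel₀ _ hc0]
  have hs0 : s ≠ 0 := by rintro rfl; apply hd0; rw [hds]; ring
  have hAu : IsUnit A.det := by
    rw [hd, isUnit_iff_ne_zero]
    exact neg_ne_zero.2 (pow_ne_zero _ hc0)
  let C : M8 F := s⁻¹ • (B * A⁻¹)
  have hAi : ∀ v, Q8 F a b (A⁻¹.mulVec v) = c⁻¹ * Q8 F a b v := by
    intro v
    have h1 := hA (A⁻¹.mulVec v)
    rw [Matrix.mulVec_mulVec, Matrix.mul_nonsing_inv _ hAu, Matrix.one_mulVec] at h1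
    rw [h1, inv_mul_cancel_left₀ hc0]
  have hQs : ∀ (t : F) v, Q8 F a b (t • v) = t * t * Q8 F a b v := by
    intro t v
    have := (Cfsg.Agent.LieClassical.OrthForms.minusForm 3 F a b).map_smul t v
    rwa [Cfsg.Agent.LieClassical.OrthForms.coe_minusForm, smul_eq_mul] at this
  have hCQ : ∀ v, Q8 F a b (C.mulVec v) = Q8 F a b v := by
    intro v
    rw [Matrix.smul_mulVec, hQs, ← Matrix.mulVec_mulVec, hB, hAi, hds]
    field_simp
  have hCd : C.det = 1 := by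
    rw [Matrix.det_smul, Matrix.det_mul, hBd, Matrix.det_nonsing_inv, hd, Ring.inverse_eq_inv', hds]
    have hcard : Fintype.card ((Fin 3 ⊕ Fin 3) ⊕ Fin 2) = 8 := by simp
    rw [hcard]
    field_simp
  have hCu : IsUnit C.det := by rw [hCd]; exact isUnit_one
  let w : Equiv.Perm (((Fin 3 ⊕ Fin 3) ⊕ Fin 2) → F) := z * y.1⁻¹
  have hw : scal F _ (Units.mk0 s⁻¹ (inv_ne_zero hs0)) * (z * (y : Equiv.Perm _)⁻¹) ∈ fr.H := by
    refine mem_of_isom ho hab fr C hCd hCQ _ fun v => ?_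
    rw [Equiv.Perm.mul_apply, Equiv.Perm.mul_apply, scal_apply, Units.val_mk0, Matrix.smul_mulVec, hz]
    congr 1
    rw [← Matrix.mulVec_mulVec]
    congr 1
    rw [Equiv.Perm.inv_eq_iff_eq, hy, Matrix.mulVec_mulVec, Matrix.mul_nonsing_inv _ hAu, Matrix.one_mulVec]
  have h3 := fr.H.mul_mem (fr.H.mul_mem (fr.H.inv_mem (fr.scal_mem (Units.mk0 s⁻¹ (inv_ne_zero hs0)))) hw) y.2
  rwa [inv_mul_cancel_left, inv_mul_cancel_right] at h3

omit [Fintype F] in
/-- a lower bound (for divisibility) of the order of an element -/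
theorem dvd_orderOf_of (fr : OFrame F (Q8 F a b) M) (z : ↥fr.H) {n : ℕ}
    (h : ∀ (k : ℕ) (t : F), (∀ v, ((z : Equiv.Perm (((Fin 3 ⊕ Fin 3) ⊕ Fin 2) → F)) ^ k) v = t • v) → n ∣ k) :
    n ∣ orderOf (fr.Φ z) := by
  have h1 : fr.Φ (z ^ orderOf (fr.Φ z)) = 1 := by rw [map_pow, pow_orderOf_eq_one]
  obtain ⟨t, ht⟩ := (fr.ker _).1 h1
  refine h _ (t : F) fun v => ?_
  have h2 := DFunLike.congr_fun ht v
  rw [Subgroup.coe_pow, scal_apply] at h2
  exact h2

end Eight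

end Cfsg.Agent.H79.S69
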