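import Cfsg.Agent.H79.S69.Coset
import Cfsg.Agent.H79.S69.Num

/-!
# S3469 (recognition of `PSp₈(7^m)`): an improper similitude of bad order, `q ≡ 1 mod 4` (helper79)
-/

set_option autoImplicit false
set_option linter.style.haveILetI false

universe u

namespace Cfsg.Agent.H79.S69

open Cfsg Cfsg.Agent.H903.SylSemi Cfsg.Agent.H214.S69 Cfsg.Agent

section Arith

theorem arith {F : Type*} [Field F] {τ : F} {N r m : ℕ} (hτ : ∀ j, τ ^ j = 1 → N ∣ j) (hr : r.Prime) (hr2 : r ≠ 2)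
    (hNr : ¬ r ∣ N) (hN : τ ^ N = 1) {n : Type*} [Fintype n] [DecidableEq n] [Nonempty n] (X : Matrix n n F)
    (hX : orderOf X = r) (h : X ^ (2 * m) = τ ^ m • (1 : Matrix n n F)) : N * r ∣ m := by
  have hinj : ∀ s : F, s • (1 : Matrix n n F) = 1 → s = 1 := by
    intro s hs
    obtain ⟨i⟩ := ‹Nonempty n›
    have := congrFun (congrFun hs i) i
    rw [Matrix.smul_apply, Matrix.one_apply_eq, smul_eq_mul, mul_one] at this
    exact this
  have h1 : (X ^ (2 * m)) ^ r = 1 := by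
    rw [← pow_mul, mul_comm, pow_mul, ← hX, pow_orderOf_eq_one, one_pow]
  rw [h, smul_pow, one_pow, ← pow_mul] at h1
  have h2 := hτ _ (hinj _ h1)
  have hcop : Nat.Coprime N r := ((Nat.Prime.coprime_iff_not_dvd hr).2 hNr).symm
  have h3 : N ∣ m := hcop.dvd_of_dvd_mul_right h2
  obtain ⟨j, rfl⟩ := h3
  have h4 : τ ^ (N * j) = 1 := by rw [pow_mul, hN, one_pow]
  rw [h4, one_smul] at h
  have h5 := orderOf_dvd_of_pow_eq_one h
  rw [hX] at h5
  have h6 : r ∣ N * j := (Nat.Coprime.dvd_mul_left ((Nat.coprime_primes hr Nat.prime_two).2 hr2)).1 h5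
  have h7 : r ∣ j := ((Nat.Prime.dvd_mul hr).1 h6).resolve_left hNr
  exact Nat.mul_dvd_mul_left N h7

theorem exists_X (F : Type*) [Field F] [Finite F] {r : ℕ} (hr : r.Prime) (hrq : r ∣ Nat.card F ^ 3 - 1) :
    ∃ X : Matrix.GeneralLinearGroup (Fin 3) F, orderOf X = r := by
  classical
  letI := Fintype.ofFinite F
  haveI : Fact r.Prime := ⟨hr⟩
  apply exists_prime_orderOf_dvd_card'
  rw [Matrix.card_GL_field, Fin.prod_univ_three]
  rw [Nat.card_eq_fintype_card] at hrq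
  apply Dvd.dvd.mul_right
  apply Dvd.dvd.mul_right
  simpa using hrq

end Arith


section Powers

theorem pow_apply {ι F : Type*} [Fintype ι] [DecidableEq ι] [Field F] {B : Matrix ι ι F} {z : Equiv.Perm (ι → F)}
    (hz : ∀ v, z v = B.mulVec v) (k : ℕ) (v : ι → F) : (z ^ k) v = (B ^ k).mulVec v := by
  induction k generalizing v with
  | zero => simp
  | succ k ih => rw [pow_succ, Equiv.Perm.mul_apply, ih, hz, Matrix.mulVec_mulVec, pow_succ]

theorem pow_eq_smul {ι F : Type*} [Fintype ι] [DecidableEq ι] [Field F] {B : Matrix ι ι F} {z : Equiv.Perm (ι → F)}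
    (hz : ∀ v, z v = B.mulVec v) {k : ℕ} {t : F} (h : ∀ v, (z ^ k) v = t • v) :
    B ^ k = t • (1 : Matrix ι ι F) := by
  apply Matrix.ext_of_mulVec_single
  intro i
  rw [← pow_apply hz, h, Matrix.smul_mulVec, Matrix.one_mulVec]

/-- the permutation given by an invertible matrix -/
theorem exists_perm {ι F : Type*} [Fintype ι] [DecidableEq ι] [Field F] (B : Matrix ι ι F) (hB : B.det ≠ 0) :
    ∃ z : Equiv.Perm (ι → F), ∀ v, z v = B.mulVec v := by
  have hu : IsUnit B.det := isUnit_iff_ne_zero.2 hB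
  refine ⟨⟨fun v => B.mulVec v, fun v => B⁻¹.mulVec v, fun v => ?_, fun v => ?_⟩, fun v => rfl⟩
  · simp only [Matrix.mulVec_mulVec, Matrix.nonsing_inv_mul _ hu, Matrix.one_mulVec]
  · simp only [Matrix.mulVec_mulVec, Matrix.mul_nonsing_inv _ hu, Matrix.one_mulVec]

/-- if `R² = τ` with `τ` not a square and `R ^ k` is a scalar then `k` is even -/
theorem even_of_sq {n F : Type*} [Fintype n] [DecidableEq n] [Nonempty n] [Field F] {R : Matrix n n F} {τ : F}
    (hτ : ¬ IsSquare τ) (hR : R * R = τ • (1 : Matrix n n F)) {k : ℕ} {t : F}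
    (h : R ^ k = t • (1 : Matrix n n F)) : ∃ m, k = 2 * m ∧ t = τ ^ m := by
  have hinj : ∀ s s' : F, s • (1 : Matrix n n F) = s' • 1 → s = s' := by
    intro s s' hs
    obtain ⟨i⟩ := ‹Nonempty n›
    have := congrFun (congrFun hs i) i
    rw [Matrix.smul_apply, Matrix.smul_apply, Matrix.one_apply_eq, smul_eq_mul, smul_eq_mul, mul_one, mul_one] at this
    exact this
  have hτ0 : τ ≠ 0 := by rintro rfl; exact hτ ⟨0, by ring⟩
  have hR2 : R ^ 2 = τ • (1 : Matrix n n F) := by rw [pow_two, hR]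
  rcases Nat.even_or_odd' k with ⟨m, rfl | rfl⟩
  · refine ⟨m, rfl, ?_⟩
    rw [pow_mul, hR2, smul_pow, one_pow] at h
    exact (hinj _ _ h).symm
  · exfalso
    have h1 : (R ^ (2 * m + 1)) ^ 2 = (t • (1 : Matrix n n F)) ^ 2 := by rw [h]
    rw [← pow_mul, mul_comm (2 * m + 1) 2, pow_mul, hR2, smul_pow, one_pow, smul_pow, one_pow] at h1
    have h2 := hinj _ _ h1
    apply hτ
    refine ⟨t / τ ^ m, ?_⟩
    have h3 : τ ^ m ≠ 0 := pow_ne_zero _ hτ0
    field_simp
    rw [← h2]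
    ring

end Powers

section Elt

variable {F : Type} [Field F]

/-- the matrix of an improper similitude -/
noncomputable def BM (X : Matrix (Fin 3) (Fin 3) F) (τ a b k l : F) : M8 F :=
  Matrix.fromBlocks (Matrix.fromBlocks X 0 0 (τ • (X⁻¹).transpose)) 0 0 !![k, a * k + b * l; l, -k]

theorem BM_det {X : Matrix (Fin 3) (Fin 3) F} (hX : X.det ≠ 0) {τ a b k l : F}
    (hk : k ^ 2 + a * k * l + b * l ^ 2 = τ) : (BM X τ a b k l).det = - τ ^ 4 := by
  rw [BM, Matrix.det_fromBlocks_zero₂₁, Matrix.det_fromBlocks_zero₂₁, Matrix.det_smul, Matrix.det_transpose,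
    Matrix.det_nonsing_inv, Ring.inverse_eq_inv', Matrix.det_fin_two_of, Fintype.card_fin]
  rw [← hk]
  field_simp
  ring

theorem BM_form {X : Matrix (Fin 3) (Fin 3) F} (hX : X.det ≠ 0) {τ a b k l : F}
    (hk : k ^ 2 + a * k * l + b * l ^ 2 = τ) (v : (Fin 3 ⊕ Fin 3) ⊕ Fin 2 → F) :
    Q8 F a b ((BM X τ a b k l).mulVec v) = τ * Q8 F a b v := by
  have hu : IsUnit X.det := isUnit_iff_ne_zero.2 hX
  have e1 : ∀ i, (BM X τ a b k l).mulVec v (.inl (.inl i)) = X.mulVec (fun j => v (.inl (.inl j))) i := by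
    intro i
    rw [BM, Matrix.fromBlocks_mulVec, Sum.elim_inl, Matrix.zero_mulVec, add_zero, Matrix.fromBlocks_mulVec,
      Sum.elim_inl, Matrix.zero_mulVec, add_zero]
    rfl
  have e2 : ∀ i, (BM X τ a b k l).mulVec v (.inl (.inr i)) =
      τ * ((X⁻¹).transpose.mulVec (fun j => v (.inl (.inr j)))) i := by
    intro i
    rw [BM, Matrix.fromBlocks_mulVec, Sum.elim_inl, Matrix.zero_mulVec, add_zero, Matrix.fromBlocks_mulVec,
      Sum.elim_inr, Matrix.zero_mulVec, zero_add, Matrix.smul_mulVec]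
    rfl
  have e3 : ∀ i, (BM X τ a b k l).mulVec v (.inr i) =
      (!![k, a * k + b * l; l, -k] : Matrix (Fin 2) (Fin 2) F).mulVec (fun j => v (.inr j)) i := by
    intro i
    rw [BM, Matrix.fromBlocks_mulVec, Sum.elim_inr, Matrix.zero_mulVec, zero_add]
    rfl
  have e4 : ∑ i : Fin 3, X.mulVec (fun j => v (.inl (.inl j))) i *
      (τ * ((X⁻¹).transpose.mulVec (fun j => v (.inl (.inr j)))) i) =
      τ * ∑ i : Fin 3, v (.inl (.inl i)) * v (.inl (.inr i)) := by
    have h1 : (X.mulVec (fun j => v (.inl (.inl j)))) ⬝ᵥ ((X⁻¹).transpose.mulVec (fun j => v (.inl (.inr j)))) =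
        (fun j => v (.inl (.inl j))) ⬝ᵥ (fun j => v (.inl (.inr j))) := by
      rw [Matrix.dotProduct_mulVec, Matrix.vecMul_transpose, Matrix.mulVec_mulVec, Matrix.nonsing_inv_mul _ hu,
        Matrix.one_mulVec]
    have h2 := congrArg (fun s => τ * s) h1
    simp only [dotProduct, Finset.mul_sum] at h2
    rw [Finset.mul_sum, ← h2]
    exact Finset.sum_congr rfl fun i _ => by ring
  change (∑ i : Fin 3, (BM X τ a b k l).mulVec v (.inl (.inl i)) * (BM X τ a b k l).mulVec v (.inl (.inr i)))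
      + ((BM X τ a b k l).mulVec v (.inr 0) ^ 2 + a * (BM X τ a b k l).mulVec v (.inr 0) *
        (BM X τ a b k l).mulVec v (.inr 1) + b * (BM X τ a b k l).mulVec v (.inr 1) ^ 2) = τ * (
      (∑ i : Fin 3, v (.inl (.inl i)) * v (.inl (.inr i)))
      + (v (.inr 0) ^ 2 + a * v (.inr 0) * v (.inr 1) + b * v (.inr 1) ^ 2))
  simp only [e1, e2, e3]
  rw [e4, mul_add]
  congr 1
  simp only [Matrix.mulVec, dotProduct, Fin.sum_univ_two, Matrix.of_apply, Matrix.cons_val', Matrix.cons_val_zero,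
    Matrix.cons_val_one, Matrix.cons_val_fin_one]
  rw [← hk]
  ring

theorem BM_pow {X : Matrix (Fin 3) (Fin 3) F} {τ a b k l : F} {n : ℕ} {t : F}
    (h : (BM X τ a b k l) ^ n = t • (1 : M8 F)) :
    X ^ n = t • (1 : Matrix (Fin 3) (Fin 3) F) ∧
      (!![k, a * k + b * l; l, -k] : Matrix (Fin 2) (Fin 2) F) ^ n = t • (1 : Matrix (Fin 2) (Fin 2) F) := by
  rw [BM, Matrix.fromBlocks_diagonal_pow, Matrix.fromBlocks_diagonal_pow, ← Matrix.fromBlocks_one,
    ← Matrix.fromBlocks_one, Matrix.fromBlocks_smul, Matrix.fromBlocks_smul] at h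
  obtain ⟨h1, -, -, h2⟩ := Matrix.fromBlocks_inj.1 h
  obtain ⟨h3, -, -, -⟩ := Matrix.fromBlocks_inj.1 h1
  exact ⟨h3, h2⟩

variable [Fintype F]

theorem exists_gen (ho : Odd (Fintype.card F)) : ∃ τ : F, ¬ IsSquare τ ∧ (∀ j, τ ^ j = 1 → Fintype.card F - 1 ∣ j) ∧
    τ ^ (Fintype.card F - 1) = 1 := by
  classical
  obtain ⟨g, hg⟩ := IsCyclic.exists_generator (α := Fˣ)
  have ho1 : orderOf g = Fintype.card F - 1 := by
    rw [orderOf_eq_card_of_forall_mem_zpowers hg, Nat.card_eq_fintype_card, Fintype.card_units]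
  have hj : ∀ j, (g : F) ^ j = 1 → Fintype.card F - 1 ∣ j := by
    intro j hj
    rw [← ho1]
    apply orderOf_dvd_of_pow_eq_one
    apply Units.ext
    rw [Units.val_pow_eq_pow_val, hj, Units.val_one]
  refine ⟨g, ?_, hj, ?_⟩
  · rintro ⟨s, hs⟩
    have hs0 : s ≠ 0 := by
      rintro rfl
      exact g.ne_zero (by rw [hs]; ring)
    obtain ⟨k, hk⟩ := ho
    have h1 : (g : F) ^ k = 1 := by
      rw [hs, ← pow_two, ← pow_mul, show 2 * k = Fintype.card F - 1 by omega]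
      exact FiniteField.pow_card_sub_one_eq_one s hs0
    have h2 := hj k h1
    have h3 : 1 < Fintype.card F := Fintype.one_lt_card
    have := Nat.le_of_dvd (by omega) h2
    omega
  · exact FiniteField.pow_card_sub_one_eq_one _ g.ne_zero

theorem exists_norm (ho : Odd (Fintype.card F)) {a b : F} (hab : Aniso a b) (τ : F) :
    ∃ k l : F, k ^ 2 + a * k * l + b * l ^ 2 = τ := by
  obtain ⟨v, hv⟩ := Cfsg.Agent.ClassicalGeometry.Universal.exists_map_eq_of_two_le (two_ne_zero_of_odd ho)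
    (Cfsg.Agent.H377.binForm F a b) (Cfsg.Agent.H377.binForm_nondegenerate hab) (by simp) τ
  rw [Cfsg.Agent.H377.binForm_apply] at hv
  exact ⟨v 0, v 1, hv⟩

omit [Fintype F] in
theorem sq_eq {τ a b k l : F} (hk : k ^ 2 + a * k * l + b * l ^ 2 = τ) :
    (!![k, a * k + b * l; l, -k] : Matrix (Fin 2) (Fin 2) F) * !![k, a * k + b * l; l, -k] =
      τ • (1 : Matrix (Fin 2) (Fin 2) F) := by
  rw [← hk]
  ext i j
  fin_cases i <;> fin_cases j <;> simp [Matrix.mul_apply, Fin.sum_univ_two] <;> ring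

/-- **case `q ≡ 1 mod 4`** -/
theorem o_gd_one [CharP F 7] {M : Type u} [Group M] [Finite M]
    (hs : Up8 (Fintype.card F) M) (h4 : Fintype.card F % 4 = 1) {a b : F} (hab : Aniso a b) (fr : OFrame F (Q8 F a b) M)
    (hmem : ∀ (B : M8 F) (d : F), ¬ IsSquare d → B.det = -d ^ 4 → (∀ v, Q8 F a b (B.mulVec v) = d * Q8 F a b v) →
      ∀ z : Equiv.Perm _, (∀ v, z v = B.mulVec v) → z ∈ fr.H) : False := by
  have ho : Odd (Fintype.card F) := Nat.odd_iff.2 (by omega)
  obtain ⟨f, hf, hq⟩ := hs.pow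
  obtain ⟨r, hr, h3, hrq⟩ := exists_prime_minus hf hq
  obtain ⟨τ, hτ, hτ1, hτ2⟩ := exists_gen (F := F) ho
  obtain ⟨k, l, hk⟩ := exists_norm ho hab τ
  set q := Fintype.card F with hqq
  have hq1 : 1 < q := Fintype.one_lt_card
  have s3 : q ^ 3 - 1 = (q - 1) * (q ^ 2 + q + 1) := by
    have p3 : 1 ≤ q ^ 3 := Nat.one_le_pow _ _ (by omega)
    zify [p3, hq1.le]
    ring
  obtain ⟨X, hX⟩ := exists_X F hr (by
    rw [Nat.card_eq_fintype_card, ← hqq, s3]
    exact hrq.mul_left _)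
  have hXd : X.val.det ≠ 0 := (Matrix.isUnits_det_units X).ne_zero
  have hXo : orderOf X.val = r := by rw [orderOf_units, hX]
  have hτ0 : τ ≠ 0 := by rintro rfl; exact hτ ⟨0, by ring⟩
  have hdet := BM_det (F := F) hXd (a := a) (b := b) hk
  obtain ⟨z, hz⟩ := exists_perm (BM X.val τ a b k l) (by
    rw [hdet]
    exact neg_ne_zero.2 (pow_ne_zero _ hτ0))
  have hzH := hmem (BM X.val τ a b k l) τ hτ hdet (BM_form hXd hk) z hz
  have hdvd : 2 * ((q - 1) * r) ∣ orderOf (fr.Φ ⟨z, hzH⟩) := by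
    apply dvd_orderOf_of
    intro n t ht
    have h1 := pow_eq_smul hz ht
    obtain ⟨h2, h5⟩ := BM_pow h1
    obtain ⟨m, rfl, rfl⟩ := even_of_sq hτ (sq_eq hk) h5
    refine Nat.mul_dvd_mul_left 2 (arith hτ1 hr (by omega) ?_ hτ2 X.val hXo h2)
    intro h6
    have h7 : r ∣ 3 := by
      have h8 : q ^ 2 + q + 1 = (q - 1) * (q + 2) + 3 := by
        zify [hq1.le]
        ring
      rw [h8] at hrq
      exact (Nat.dvd_add_right (h6.mul_right _)).1 hrq
    have := Nat.le_of_dvd (by norm_num) h7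
    omega
  exact no_minus hs h4 hr h3 hrq _ hdvd

end Elt

end Cfsg.Agent.H79.S69
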