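import Cfsg.Agent.H79.S69.EltMinus

/-!
# S3469 (recognition of `PSp₈(7^m)`): semisimilitudes of the symplectic form (helper79)

* `mem_of_semi` : membership in the group of an `SpFrame`;
* `exists_perm_semi`, `dvd_orderOf_sp`, `two_dvd_of_semi`.
-/

set_option autoImplicit false
set_option linter.style.haveILetI false

universe u

namespace Cfsg.Agent.H79.S69

open Cfsg Cfsg.Agent.H903.SylSemi Cfsg.Agent.H214.S69 Cfsg.Agent

section Form

variable {F : Type*} [Field F] {n : ℕ}

theorem form_eq (u v : Fin n ⊕ Fin n → F) :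
    Cfsg.sympForm n F u v = ∑ i : Fin n, (u (.inr i) * v (.inl i) - u (.inl i) * v (.inr i)) := by
  rw [Cfsg.sympForm, Matrix.J, Matrix.fromBlocks_mulVec, dotProduct, Fintype.sum_sum_type, ← Finset.sum_add_distrib]
  refine Finset.sum_congr rfl fun i _ => ?_
  simp only [Sum.elim_inl, Sum.elim_inr, Matrix.zero_mulVec, Matrix.neg_mulVec, Matrix.one_mulVec, zero_add, add_zero,
    Pi.neg_apply, Function.comp_apply]
  ring

theorem form_smul_left (t : F) (u v : Fin n ⊕ Fin n → F) :
    Cfsg.sympForm n F (t • u) v = t * Cfsg.sympForm n F u v := by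
  rw [form_eq, form_eq, Finset.mul_sum]
  exact Finset.sum_congr rfl fun i _ => by simp only [Pi.smul_apply, smul_eq_mul]; ring

theorem form_smul_right (t : F) (u v : Fin n ⊕ Fin n → F) :
    Cfsg.sympForm n F u (t • v) = t * Cfsg.sympForm n F u v := by
  rw [form_eq, form_eq, Finset.mul_sum]
  exact Finset.sum_congr rfl fun i _ => by simp only [Pi.smul_apply, smul_eq_mul]; ring

theorem eq_zero_of_form {v : Fin n ⊕ Fin n → F} (h : ∀ u, Cfsg.sympForm n F u v = 0) : v = 0 := by
  funext i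
  rcases i with i | i
  · have h1 := h (Pi.single (.inr i) 1)
    rw [form_eq, Finset.sum_eq_single i] at h1
    · simpa using h1
    · intro j _ hj
      simp [hj]
    · intro h2
      exact absurd (Finset.mem_univ i) h2
  · have h1 := h (Pi.single (.inl i) 1)
    rw [form_eq, Finset.sum_eq_single i] at h1
    · simpa using h1
    · intro j _ hj
      simp [hj]
    · intro h2
      exact absurd (Finset.mem_univ i) h2

variable [Finite F]

theorem exists_perm_semi {θ : F ≃+* F} (g : (Fin n ⊕ Fin n → F) → (Fin n ⊕ Fin n → F))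
    (hadd : ∀ u v, g (u + v) = g u + g v) {ν : F} (hν : ν ≠ 0)
    (hform : ∀ u v, Cfsg.sympForm n F (g u) (g v) = ν * θ (Cfsg.sympForm n F u v)) :
    ∃ z : Equiv.Perm (Fin n ⊕ Fin n → F), ∀ v, z v = g v := by
  have hz : ∀ v, g v = 0 → v = 0 := by
    intro v hv
    apply eq_zero_of_form
    intro u
    have h1 := hform u v
    rw [hv] at h1
    have h2 : Cfsg.sympForm n F (g u) 0 = 0 := by
      have := form_smul_right (0 : F) (g u) 0
      rwa [zero_smul, zero_mul] at this
    rw [h2] at h1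
    have h3 := (mul_eq_zero.1 h1.symm).resolve_left hν
    exact (map_eq_zero_iff _ θ.injective).1 h3
  have hinj : Function.Injective g := by
    intro u v huv
    have h1 : g (u - v) + g v = g u := by rw [← hadd, sub_add_cancel]
    rw [huv] at h1
    exact sub_eq_zero.1 (hz _ (by simpa using h1))
  exact ⟨Equiv.ofBijective g (Finite.injective_iff_bijective.1 hinj), fun v => rfl⟩

end Form

section Semi

variable {F : Type*} [Field F] {V : Type*} [AddCommGroup V] [Module F V]

theorem semi_pow {z : Equiv.Perm V} {θ : F ≃+* F} (h : Semi F z θ) (k : ℕ) (a : F) (v : V) :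
    (z ^ k) (a • v) = (θ ^ k) a • (z ^ k) v := by
  induction k generalizing a v with
  | zero => simp
  | succ k ih =>
    rw [pow_succ, Equiv.Perm.mul_apply, h.2, ih, pow_succ, Equiv.Perm.mul_apply]
    rfl

theorem orderOf_dvd_of_semi [Nontrivial V] {z : Equiv.Perm V} {θ : F ≃+* F} (h : Semi F z θ) {k : ℕ} {t : F}
    (ht : ∀ v, (z ^ k) v = t • v) : orderOf θ ∣ k := by
  obtain ⟨v, hv⟩ := exists_ne (0 : V)
  have ht0 : t • v ≠ 0 := by
    intro h0
    have h1 := ht v
    rw [h0] at h1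
    have h2 := ht 0
    rw [smul_zero] at h2
    exact hv ((z ^ k).injective (h1.trans h2.symm))
  apply orderOf_dvd_of_pow_eq_one
  apply RingEquiv.ext
  intro a
  have h1 := semi_pow h k a v
  rw [ht, ht, smul_smul, mul_comm, mul_smul] at h1
  have h2 : (a - (θ ^ k) a) • (t • v) = 0 := by rw [sub_smul, h1, sub_self]
  rcases smul_eq_zero.1 h2 with h3 | h3
  · exact (sub_eq_zero.1 h3).symm
  · exact absurd h3 ht0

theorem semi_unique [Nontrivial V] {z : Equiv.Perm V} {θ θ' : F ≃+* F} (h : Semi F z θ) (h' : Semi F z θ') :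
    θ = θ' := by
  obtain ⟨v, hv⟩ := exists_ne (0 : V)
  have h0 : z 0 = 0 := by
    have := h.1 0 0
    rw [add_zero] at this
    exact (add_eq_left.1 this.symm)
  have hzv : z v ≠ 0 := fun h1 => hv (z.injective (h1.trans h0.symm))
  apply RingEquiv.ext
  intro a
  have h2 : (θ a - θ' a) • z v = 0 := by rw [sub_smul, ← h.2, ← h'.2, sub_self]
  rcases smul_eq_zero.1 h2 with h3 | h3
  · exact sub_eq_zero.1 h3
  · exact absurd h3 hzv

end Semi

section Frame

variable {F : Type} [Field F] {n : ℕ} {M : Type u} [Group M]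

theorem dvd_orderOf_sp (fr : SpFrame F n M) (z : ↥fr.H) {N : ℕ}
    (h : ∀ (k : ℕ) (t : F), (∀ v, ((z : Equiv.Perm (Fin n ⊕ Fin n → F)) ^ k) v = t • v) → N ∣ k) :
    N ∣ orderOf (fr.Φ z) := by
  have h1 : fr.Φ (z ^ orderOf (fr.Φ z)) = 1 := by rw [map_pow, pow_orderOf_eq_one]
  obtain ⟨t, ht⟩ := (fr.ker _).1 h1
  refine h _ (t : F) fun v => ?_
  have h2 := DFunLike.congr_fun ht v
  rw [Subgroup.coe_pow, scal_apply] at h2
  exact h2

/-- two semisimilitudes with the same companion automorphism whose multipliers differ by a square -/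
theorem mem_of_semi (fr : SpFrame F n M) (y : ↥fr.H) {θ : F ≃+* F} (hy : Semi F y.1 θ) {τ : F} (hτ : τ ≠ 0)
    (hyf : ∀ u v, Cfsg.sympForm n F (y.1 u) (y.1 v) = τ * θ (Cfsg.sympForm n F u v))
    (z : Equiv.Perm (Fin n ⊕ Fin n → F)) (hz : Semi F z θ) {s : F} (hs : s ≠ 0)
    (hzf : ∀ u v, Cfsg.sympForm n F (z u) (z v) = s * s * τ * θ (Cfsg.sympForm n F u v)) : z ∈ fr.H := by
  have hyi : ∀ u, y.1 (y.1⁻¹ u) = u := fun u => by
    rw [← Equiv.Perm.mul_apply, mul_inv_cancel, Equiv.Perm.one_apply]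
  have h1 : scal F _ (Units.mk0 s⁻¹ (inv_ne_zero hs)) * (z * (y : Equiv.Perm _)⁻¹) ∈ fr.H := by
    refine fr.isom _ ⟨⟨fun u v => ?_, fun a v => ?_⟩, fun u v => ?_⟩
    · simp only [Equiv.Perm.mul_apply, scal_apply]
      have h2 : y.1⁻¹ (u + v) = y.1⁻¹ u + y.1⁻¹ v := by
        apply y.1.injective
        rw [hy.1, hyi, hyi, hyi]
      rw [h2, hz.1, smul_add]
    · simp only [Equiv.Perm.mul_apply, scal_apply]
      have h2 : y.1⁻¹ (a • v) = θ.symm a • y.1⁻¹ v := by
        apply y.1.injective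
        rw [hy.2, hyi, hyi, RingEquiv.apply_symm_apply]
      rw [h2, hz.2, RingEquiv.apply_symm_apply, smul_comm]
      rfl
    · simp only [Equiv.Perm.mul_apply, scal_apply, Units.val_mk0]
      rw [form_smul_left, form_smul_right, hzf]
      have h2 := hyf (y.1⁻¹ u) (y.1⁻¹ v)
      rw [hyi, hyi] at h2
      rw [h2]
      field_simp
  have h3 := fr.H.mul_mem (fr.H.mul_mem (fr.H.inv_mem (fr.scal_mem (Units.mk0 s⁻¹ (inv_ne_zero hs)))) h1) y.2
  rwa [inv_mul_cancel_left, inv_mul_cancel_right] at h3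

end Frame

end Cfsg.Agent.H79.S69
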