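import Cfsg.Agent.H79.S69.SpBase

/-!
# S3469 (recognition of `PSp₈(7^m)`): no field automorphism of order 2 (helper79)
-/

set_option autoImplicit false
set_option linter.style.haveILetI false

universe u

namespace Cfsg.Agent.H79.S69

open Cfsg Cfsg.Agent.H903.SylSemi Cfsg.Agent.H214.S69 Cfsg.Agent

section Unip

variable {F : Type} [Field F]

/-- `u - 1` for a regular unipotent `u` of `Sp₈` -/
def nil8 (F : Type) [Field F] : Module.End F (Fin 4 ⊕ Fin 4 → F) where
  toFun v := Sum.elim ![v (.inl 1), v (.inl 2), v (.inl 3) + v (.inr 3), v (.inr 3)]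
    ![0, -v (.inr 0), -v (.inr 1) + v (.inr 0), -v (.inr 2) + v (.inr 1) - v (.inr 0)]
  map_add' u v := by
    funext i
    rcases i with i | i <;> fin_cases i <;> simp <;> ring
  map_smul' a v := by
    funext i
    rcases i with i | i <;> fin_cases i <;> simp <;> ring

theorem nil8_apply (v : Fin 4 ⊕ Fin 4 → F) :
    nil8 F v = Sum.elim ![v (.inl 1), v (.inl 2), v (.inl 3) + v (.inr 3), v (.inr 3)]
    ![0, -v (.inr 0), -v (.inr 1) + v (.inr 0), -v (.inr 2) + v (.inr 1) - v (.inr 0)] := rfl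

theorem nil8_pow_eight : (nil8 F) ^ 8 = 0 := by
  apply LinearMap.ext
  intro v
  simp only [pow_succ, pow_zero, one_mul, Module.End.mul_apply, nil8_apply]
  funext i
  rcases i with i | i <;> fin_cases i <;> simp

theorem nil8_pow_seven : ((nil8 F) ^ 7) (Pi.single (.inr 0) 1) (.inl 0) = -1 := by
  simp only [pow_succ, pow_zero, one_mul, Module.End.mul_apply, nil8_apply]
  simp

theorem orderOf_unip [CharP F 7] : orderOf (1 + nil8 F) = 49 := by
  haveI : Fact (Nat.Prime 7) := ⟨by norm_num⟩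
  haveI : CharP (Module.End F (Fin 4 ⊕ Fin 4 → F)) 7 :=
    charP_of_injective_algebraMap (algebraMap F (Module.End F (Fin 4 ⊕ Fin 4 → F))).injective 7
  have h1 : (1 + nil8 F) ^ 7 ^ 2 = 1 := by
    rw [add_pow_char_pow_of_commute (p := 7) (n := 2) (Commute.one_left _), one_pow,
      show 7 ^ 2 = 8 + 41 by norm_num, pow_add, nil8_pow_eight, zero_mul, add_zero]
  have h2 : ¬ (1 + nil8 F) ^ 7 ^ 1 = 1 := by
    rw [pow_one, add_pow_char_of_commute (p := 7) (Commute.one_left _), one_pow, add_eq_left]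
    intro h
    have h3 := nil8_pow_seven (F := F)
    rw [h] at h3
    simp at h3
  exact orderOf_eq_prime_pow h2 h1

theorem unip_form (u v : Fin 4 ⊕ Fin 4 → F) :
    Cfsg.sympForm 4 F ((1 + nil8 F) u) ((1 + nil8 F) v) = Cfsg.sympForm 4 F u v := by
  rw [form_eq, form_eq]
  simp only [LinearMap.add_apply, Module.End.one_apply, nil8_apply, Fin.sum_univ_four, Pi.add_apply, Sum.elim_inl,
    Sum.elim_inr]
  simp
  ring

/-- `θ` on all coordinates -/
def cw {ι : Type} (θ : F ≃+* F) (v : ι → F) : ι → F := fun i => θ (v i)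

theorem cw_cw {ι : Type} {θ : F ≃+* F} (hθ : ∀ x, θ (θ x) = x) (v : ι → F) : cw θ (cw θ v) = v :=
  funext fun i => hθ (v i)

theorem cw_add {ι : Type} (θ : F ≃+* F) (u v : ι → F) : cw θ (u + v) = cw θ u + cw θ v :=
  funext fun i => map_add θ _ _

theorem cw_smul {ι : Type} (θ : F ≃+* F) (a : F) (v : ι → F) : cw θ (a • v) = θ a • cw θ v :=
  funext fun i => map_mul θ _ _

theorem cw_form {n : ℕ} (θ : F ≃+* F) (u v : Fin n ⊕ Fin n → F) :
    Cfsg.sympForm n F (cw θ u) (cw θ v) = θ (Cfsg.sympForm n F u v) := by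
  rw [form_eq, form_eq, map_sum]
  refine Finset.sum_congr rfl fun i _ => ?_
  rw [map_sub, map_mul, map_mul]
  rfl

theorem cw_unip (θ : F ≃+* F) (v : Fin 4 ⊕ Fin 4 → F) : cw θ ((1 + nil8 F) v) = (1 + nil8 F) (cw θ v) := by
  funext i
  simp only [LinearMap.add_apply, Module.End.one_apply, nil8_apply, cw, Pi.add_apply]
  rcases i with i | i <;> fin_cases i <;> simp

/-- **the case of a square multiplier** -/
theorem sp_two_sq [Fintype F] [CharP F 7] {M : Type u} [Group M] [Finite M]
    (hno : ∀ x : M, orderOf x ≠ 98) (fr : SpFrame F 4 M) (y : ↥fr.H) {θ : F ≃+* F} (hy : Semi F y.1 θ)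
    (hθ : orderOf θ = 2) {τ : F} (hτ : τ ≠ 0)
    (hyf : ∀ u v, Cfsg.sympForm 4 F (y.1 u) (y.1 v) = τ * θ (Cfsg.sympForm 4 F u v)) (hsq : IsSquare τ) : False := by
  have hθ2 : ∀ x, θ (θ x) = x := by
    intro x
    have h1 := pow_orderOf_eq_one θ
    rw [hθ, pow_two] at h1
    exact DFunLike.congr_fun h1 x
  obtain ⟨s, rfl⟩ := hsq
  have hs : s ≠ 0 := by rintro rfl; exact hτ (by ring)
  let g : (Fin 4 ⊕ Fin 4 → F) → (Fin 4 ⊕ Fin 4 → F) := fun v => (1 + nil8 F) (cw θ v)
  have hgf : ∀ u v, Cfsg.sympForm 4 F (g u) (g v) = 1 * θ (Cfsg.sympForm 4 F u v) := by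
    intro u v
    rw [unip_form, cw_form, one_mul]
  obtain ⟨z, hz⟩ := exists_perm_semi g (fun u v => by
    change (1 + nil8 F) (cw θ (u + v)) = _
    rw [cw_add, map_add]) one_ne_zero hgf
  have hzs : Semi F z θ := by
    refine ⟨fun u v => ?_, fun a v => ?_⟩
    · rw [hz, hz, hz]
      change (1 + nil8 F) (cw θ (u + v)) = _
      rw [cw_add, map_add]
    · rw [hz, hz]
      change (1 + nil8 F) (cw θ (a • v)) = _
      rw [cw_smul, map_smul]
  have hzH : z ∈ fr.H := mem_of_semi fr y hy hτ hyf z hzs (inv_ne_zero hs) (by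
    intro u v
    rw [hz, hz, hgf]
    field_simp)
  have hdvd : 98 ∣ orderOf (fr.Φ ⟨z, hzH⟩) := by
    apply dvd_orderOf_sp
    intro k t ht
    have h2 : 2 ∣ k := hθ ▸ orderOf_dvd_of_semi hzs ht
    obtain ⟨m, rfl⟩ := h2
    have h3 : ∀ (j : ℕ) v, (z ^ (2 * j)) v = ((1 + nil8 F) ^ (2 * j)) v := by
      intro j
      induction j with
      | zero => intro v; rfl
      | succ j ih =>
        intro v
        rw [mul_add, mul_one, pow_add, Equiv.Perm.mul_apply, ih, pow_add, Module.End.mul_apply, pow_two, pow_two,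
          Equiv.Perm.mul_apply, hz, hz]
        change ((1 + nil8 F) ^ (2 * j)) ((1 + nil8 F) (cw θ ((1 + nil8 F) (cw θ v)))) = _
        rw [cw_unip, cw_cw hθ2]
        rfl
    have h4 : ∀ (j : ℕ), ((1 + nil8 F) ^ j) (Pi.single (.inl 0) 1) = Pi.single (.inl 0) 1 := by
      intro j
      induction j with
      | zero => rfl
      | succ j ih =>
        rw [pow_succ, Module.End.mul_apply]
        have h5 : (1 + nil8 F) (Pi.single (.inl 0) 1) = Pi.single (.inl 0) 1 := by
          rw [LinearMap.add_apply, Module.End.one_apply, add_eq_left, nil8_apply]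
          funext i
          rcases i with i | i <;> fin_cases i <;> simp
        rw [h5, ih]
    have h5 : t = 1 := by
      have h6 := ht (Pi.single (.inl 0) 1)
      rw [h3, h4] at h6
      have := congrFun h6 (.inl 0)
      simpa using this.symm
    have h6 : (1 + nil8 F) ^ (2 * m) = 1 := by
      apply LinearMap.ext
      intro v
      rw [← h3, ht, h5, one_smul]
      rfl
    have h7 := orderOf_dvd_of_pow_eq_one h6
    rw [orderOf_unip] at h7
    omega
  exact hno _ (orderOf_pow_orderOf_div (orderOf_pos _).ne' hdvd)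

end Unip

end Cfsg.Agent.H79.S69
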